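import Groth.Agent.Reductive.HomScheme.Global
import Groth.Agent.Pi1FEt.Splitting
import Groth.Agent.DescentBase.Descends

/-!
# Internal Hom of finite étale covers
-/

universe u

set_option autoImplicit false
set_option backward.isDefEq.respectTransparency false
set_option backward.defeqAttrib.useBackward true
set_option linter.style.haveILetI false

open CategoryTheory Limits AlgebraicGeometry MonoidalCategory CartesianMonoidalCategory

namespace Groth.Pi1IntHom

variable {S X V M : Scheme.{u}} (fU : X ⟶ S) (fV : V ⟶ S) (q : M ⟶ S)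

/-- Evaluation of a `Z`-point of `M`. -/
noncomputable def evAt (ev : pullback fU q ⟶ V) {Z : Scheme.{u}} {b : Z ⟶ S} (v : Z ⟶ M) (hv : v ≫ q = b) :
    pullback fU b ⟶ V :=
  pullback.lift (pullback.fst fU b) (pullback.snd fU b ≫ v)
    (by rw [Category.assoc, hv, pullback.condition]) ≫ ev

/-- `(M, ev)` represents the morphisms `X ⟶ V` over `S`. -/
structure IsHom (ev : pullback fU q ⟶ V) : Prop where
  w : ev ≫ fV = pullback.snd fU q ≫ q
  exists_lift : ∀ {Z : Scheme.{u}} (b : Z ⟶ S) (φ : pullback fU b ⟶ V), φ ≫ fV = pullback.snd fU b ≫ b →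
    ∃ (v : Z ⟶ M) (hv : v ≫ q = b), evAt fU q ev v hv = φ
  ext : ∀ {Z : Scheme.{u}} (b : Z ⟶ S) (v v' : Z ⟶ M) (hv : v ≫ q = b) (hv' : v' ≫ q = b),
    evAt fU q ev v hv = evAt fU q ev v' hv' → v = v'

theorem IsHom.evAt_w {ev : pullback fU q ⟶ V} (H : IsHom fU fV q ev) {Z : Scheme.{u}} {b : Z ⟶ S}
    (v : Z ⟶ M) (hv : v ≫ q = b) : evAt fU q ev v hv ≫ fV = pullback.snd fU b ≫ b := by
  simp only [evAt, Category.assoc, H.w, pullback.lift_snd_assoc, hv]

/-- The scheme of morphisms between finite étale covers. -/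
theorem exists_isHom [IsFinite fU] [Etale fU] [IsAffineHom fV] :
    ∃ (M : Scheme.{u}) (q : M ⟶ S) (_ : IsAffineHom q) (ev : pullback fU q ⟶ V), IsHom fU fV q ev := by
  haveI : IsFinite (Over.mk fU).hom := ‹IsFinite fU›
  haveI : Flat (Over.mk fU).hom := (inferInstance : Flat fU)
  haveI : LocallyOfFinitePresentation (Over.mk fU).hom := (inferInstance : LocallyOfFinitePresentation fU)
  haveI : IsAffineHom (Over.mk fV).hom := ‹IsAffineHom fV›
  obtain ⟨M, ev, hM, hu, -⟩ :=
    Groth.Reductive.HomScheme.exists_homScheme (Over.mk fU) (Over.mk fV)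
  refine ⟨M.left, M.hom, hM, ev.left, ⟨?_, fun {Z} b φ hφ => ?_, fun {Z} b v v' hv hv' h => ?_⟩⟩
  · exact (Over.w ev).trans (pullback.condition (f := fU) (g := M.hom))
  · obtain ⟨v, hv, -⟩ := hu (Over.mk b) (Over.homMk φ (hφ.trans (pullback.condition (f := fU) (g := b)).symm))
    exact ⟨v.left, Over.w v, congrArg (fun z => z.left) hv⟩
  · exact congrArg (fun z => z.left) ((hu (Over.mk b) (_ ◁ Over.homMk v' hv' ≫ ev)).unique
      (y₁ := Over.homMk v hv) (Over.OverMorphism.ext h) rfl)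

/-- Powers of a finite étale cover. -/
theorem exists_power [IsFinite fV] [Etale fV] {T : Scheme.{u}} (ψ : T ⟶ S) : ∀ (n : ℕ),
    ∃ (P : Scheme.{u}) (π : P ⟶ T) (p : Fin n → (P ⟶ V)), IsFinite π ∧ Etale π ∧
      (∀ i, p i ≫ fV = π ≫ ψ) ∧ ∀ (Z : Scheme.{u}) (z : Z ⟶ T) (a : Fin n → (Z ⟶ V)),
        (∀ i, a i ≫ fV = z ≫ ψ) → ∃! k : Z ⟶ P, k ≫ π = z ∧ ∀ i, k ≫ p i = a i := by
  intro n
  induction n with
  | zero =>
    exact ⟨T, 𝟙 T, Fin.elim0, inferInstance, inferInstance, fun i => i.elim0, fun Z z a _ =>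
      ⟨z, ⟨Category.comp_id z, fun i => i.elim0⟩, fun k hk => (Category.comp_id k).symm.trans hk.1⟩⟩
  | succ n ih =>
    obtain ⟨P, π, p, _, _, hp, hP⟩ := ih
    haveI : IsFinite (pullback.fst (π ≫ ψ) fV) := MorphismProperty.pullback_fst _ _ ‹IsFinite fV›
    haveI : Etale (pullback.fst (π ≫ ψ) fV) := MorphismProperty.pullback_fst _ _ ‹Etale fV›
    refine ⟨_, pullback.fst (π ≫ ψ) fV ≫ π,
      Fin.cases (pullback.snd _ _) fun i => pullback.fst _ _ ≫ p i, inferInstance, inferInstance,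
      fun i => ?_, fun Z z a ha => ?_⟩
    · induction i using Fin.cases with
      | zero => simp only [Fin.cases_zero, Category.assoc]; exact pullback.condition.symm
      | succ i => simp only [Fin.cases_succ, Category.assoc, hp i]
    · obtain ⟨k, ⟨hk, hki⟩, hku⟩ := hP Z z (fun i => a i.succ) fun i => ha _
      refine ⟨pullback.lift k (a 0) (by rw [ha, ← hk, Category.assoc]), ⟨?_, fun i => ?_⟩, fun l hl => ?_⟩
      · rw [pullback.lift_fst_assoc, hk]
      · induction i using Fin.cases with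
        | zero => simp only [Fin.cases_zero, pullback.lift_snd]
        | succ i => simp only [Fin.cases_succ, pullback.lift_fst_assoc, hki i]
      · refine pullback.hom_ext ?_ ?_
        · rw [pullback.lift_fst]
          exact hku _ ⟨by rw [Category.assoc]; exact hl.1, fun i => by
            simpa only [Fin.cases_succ, Category.assoc] using hl.2 i.succ⟩
        · rw [pullback.lift_snd]
          simpa only [Fin.cases_zero] using hl.2 0

/-- Over a splitting of `X` the scheme of morphisms is a power of `V`. -/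
theorem finite_etale_snd [IsFinite fU] [Etale fU] [IsFinite fV] [Etale fV] {ev : pullback fU q ⟶ V}
    (H : IsHom fU fV q ev) {T : Scheme.{u}} (ψ : T ⟶ S) {n : ℕ} (e : Fin n → (T ⟶ X))
    (he : ∀ i, e i ≫ fU = ψ)
    (hu : ∀ (Ω : Type u) [Field Ω] [IsAlgClosed Ω] (t : Spec (CommRingCat.of Ω) ⟶ T)
      (x : Spec (CommRingCat.of Ω) ⟶ X), x ≫ fU = t ≫ ψ → ∃! i, t ≫ e i = x) :
    IsFinite (pullback.snd q ψ) ∧ Etale (pullback.snd q ψ) := by
  obtain ⟨P, π, p, hπf, hπe, hp, hP⟩ := exists_power fV ψ n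
  -- the components of a `Z`-point
  let sec : ∀ {Z : Scheme.{u}} (z : Z ⟶ T), Fin n → (Z ⟶ pullback fU (z ≫ ψ)) := fun z i =>
    pullback.lift (z ≫ e i) (𝟙 _) (by rw [Category.assoc, he, Category.id_comp])
  let A : ∀ {Z : Scheme.{u}} (z : Z ⟶ T) (v : Z ⟶ M), v ≫ q = z ≫ ψ → Fin n → (Z ⟶ V) :=
    fun z v hv i => sec z i ≫ evAt fU q ev v hv
  have hA : ∀ {Z : Scheme.{u}} (z : Z ⟶ T) (v : Z ⟶ M) (hv) (i), A z v hv i =
      pullback.lift (z ≫ e i) v (by rw [Category.assoc, he, hv]) ≫ ev := by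
    intro Z z v hv i
    simp only [A, evAt, ← Category.assoc]
    congr 1
    apply pullback.hom_ext <;> simp [sec]
  have hAw : ∀ {Z : Scheme.{u}} (z : Z ⟶ T) (v : Z ⟶ M) (hv) (i), A z v hv i ≫ fV = z ≫ ψ := by
    intro Z z v hv i
    simp only [A, Category.assoc, H.evAt_w, sec, pullback.lift_snd_assoc, Category.id_comp]
  have hAn : ∀ {Y Z : Scheme.{u}} (w : Y ⟶ Z) (z : Z ⟶ T) (v : Z ⟶ M) (hv : v ≫ q = z ≫ ψ) (hwv) (i),
      A (w ≫ z) (w ≫ v) hwv i = w ≫ A z v hv i := by
    intro Y Z w z v hv hwv i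
    rw [hA, hA, ← Category.assoc w]
    congr 1
    apply pullback.hom_ext <;> simp
  have hiso : ∀ {Z : Scheme.{u}} (z : Z ⟶ T),
      IsIso (Sigma.desc fun i : ULift.{u} (Fin n) => sec z i.down) := fun z =>
    Pi1FEt.isIso_sigmaDesc_lift fU (z ≫ ψ) (fun i : ULift.{u} (Fin n) => z ≫ e i.down)
      (fun i => by rw [Category.assoc, he]) fun Ω _ _ t x hx => by
        obtain ⟨i, hi, hiu⟩ := hu Ω (t ≫ z) x (by rw [hx, Category.assoc])
        exact ⟨⟨i⟩, (Category.assoc t z _).symm.trans hi,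
          fun j hj => ULift.ext _ _ (hiu j.down ((Category.assoc t z _).trans hj))⟩
  have hAinj : ∀ {Z : Scheme.{u}} (z : Z ⟶ T) (v v' : Z ⟶ M) (hv hv'),
      (∀ i, A z v hv i = A z v' hv' i) → v = v' := by
    intro Z z v v' hv hv' h
    haveI := hiso z
    refine H.ext _ v v' hv hv' ((cancel_epi (Sigma.desc fun i : ULift.{u} (Fin n) => sec z i.down)).1 ?_)
    refine Sigma.hom_ext _ _ fun i => ?_
    rw [Sigma.ι_desc_assoc, Sigma.ι_desc_assoc]
    exact h i.down
  have hAsurj : ∀ {Z : Scheme.{u}} (z : Z ⟶ T) (a : Fin n → (Z ⟶ V)), (∀ i, a i ≫ fV = z ≫ ψ) →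
      ∃ v hv, ∀ i, A z v hv i = a i := by
    intro Z z a ha
    haveI := hiso z
    let d := Sigma.desc fun i : ULift.{u} (Fin n) => sec z i.down
    obtain ⟨v, hv, hv'⟩ := H.exists_lift (z ≫ ψ) (inv d ≫ Sigma.desc fun i : ULift.{u} (Fin n) => a i.down) (by
      rw [Category.assoc, IsIso.inv_comp_eq]
      refine Sigma.hom_ext _ _ fun i => ?_
      simp only [d, Sigma.ι_desc_assoc, ha, sec, pullback.lift_snd_assoc, Category.id_comp])
    refine ⟨v, hv, fun i => ?_⟩
    change sec z i ≫ evAt fU q ev v hv = a i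
    rw [hv', show sec z i = Sigma.ι (fun _ : ULift.{u} (Fin n) => Z) ⟨i⟩ ≫ d from
        (Sigma.ι_desc (fun j : ULift.{u} (Fin n) => sec z j.down) ⟨i⟩).symm,
      Category.assoc, IsIso.hom_inv_id_assoc, Sigma.ι_desc]
  -- compare with the power
  have hc : pullback.fst q ψ ≫ q = pullback.snd q ψ ≫ ψ := pullback.condition
  obtain ⟨k, ⟨hkπ, hkp⟩, -⟩ := hP _ (pullback.snd q ψ) (A _ _ hc) (hAw _ _ hc)
  obtain ⟨v, hv, hv'⟩ := hAsurj π p hp
  let k' : P ⟶ pullback q ψ := pullback.lift v π hv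
  have h1 : k ≫ k' = 𝟙 _ := by
    apply pullback.hom_ext
    · rw [Category.assoc, pullback.lift_fst, Category.id_comp]
      refine hAinj (pullback.snd q ψ) _ _ (by rw [Category.assoc, hv, ← Category.assoc, hkπ]) hc fun i => ?_
      rw [← hkp i, ← hv' i]
      rw [← hAn k π v hv (by rw [Category.assoc, hv, Category.assoc]) i]
      congr 1
      exact hkπ.symm
    · rw [Category.assoc, pullback.lift_snd, hkπ, Category.id_comp]
  have h2 : k' ≫ k = 𝟙 _ := by
    refine (hP P π p hp).unique ⟨?_, fun i => ?_⟩ ⟨Category.id_comp π, fun i => Category.id_comp (p i)⟩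
    · rw [Category.assoc, hkπ, pullback.lift_snd]
    · rw [Category.assoc, hkp, ← hAn k' (pullback.snd q ψ) (pullback.fst q ψ) hc
        (by rw [Category.assoc, hc, Category.assoc]), ← hv' i]
      congr 1
      · exact pullback.lift_snd _ _ _
      · exact pullback.lift_fst _ _ _
  haveI : IsIso k := ⟨k', h1, h2⟩
  rw [← hkπ]
  exact ⟨inferInstance, inferInstance⟩

/-- The scheme of morphisms between finite étale covers is finite étale. -/
theorem IsHom.finite_etale [IsFinite fU] [Etale fU] [IsFinite fV] [Etale fV] {ev : pullback fU q ⟶ V}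
    [IsAffineHom q] (H : IsHom fU fV q ev) : IsFinite q ∧ Etale q := by
  haveI : Flat fU := inferInstance
  let O : S → S.Opens := fun s => ⟨fU.finrank ⁻¹' {fU.finrank s}, fU.isLocallyConstant_finrank _⟩
  have hO : ⨆ s, O s = ⊤ := eq_top_iff.2 fun s _ => TopologicalSpace.Opens.mem_iSup.2 ⟨s, rfl⟩
  have key : ∀ s, IsFinite (q ∣_ O s) ∧ Etale (q ∣_ O s) := by
    intro s
    haveI : IsFinite (fU ∣_ O s) := IsZariskiLocalAtTarget.restrict ‹IsFinite fU› _
    haveI : Etale (fU ∣_ O s) := IsZariskiLocalAtTarget.restrict ‹Etale fU› _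
    have hd : ∀ x, (fU ∣_ O s).finrank x = fU.finrank s := fun x => by
      rw [Scheme.Hom.finrank_of_isPullback _ _ fU _ (isPullback_morphismRestrict fU (O s)).flip]
      exact x.2
    obtain ⟨T, ψ, _, _, _, -, e, he, hu⟩ := Pi1FEt.exists_splitting _ (fU ∣_ O s) hd
    have h := finite_etale_snd fU fV q H (ψ ≫ (O s).ι) (fun i => e i ≫ (fU ⁻¹ᵁ O s).ι)
      (fun i => by rw [Category.assoc, ← morphismRestrict_ι, reassoc_of% he i]) fun Ω _ _ t x hx => by
        let x' : Spec (CommRingCat.of Ω) ⟶ (fU ⁻¹ᵁ O s).toScheme :=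
          (isPullback_morphismRestrict fU (O s)).flip.lift x (t ≫ ψ) (by rw [hx, Category.assoc])
        obtain ⟨i, hi, hiu⟩ := hu Ω t x' (IsPullback.lift_snd _ _ _ _)
        have hx' : x' ≫ (fU ⁻¹ᵁ O s).ι = x := IsPullback.lift_fst _ _ _ _
        refine ⟨i, ?_, fun j hj => hiu j ((cancel_mono (fU ⁻¹ᵁ O s).ι).1 ?_)⟩
        · change t ≫ e i ≫ _ = x
          rw [← Category.assoc, hi, hx']
        · change (t ≫ e j) ≫ _ = _
          rw [Category.assoc, hj, hx']
    have sq : IsPullback (pullback.snd q (ψ ≫ (O s).ι))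
        ((isPullback_morphismRestrict q (O s)).flip.lift (pullback.fst q (ψ ≫ (O s).ι))
          (pullback.snd q (ψ ≫ (O s).ι) ≫ ψ) (by rw [pullback.condition, Category.assoc]))
        ψ (q ∣_ O s) := by
      refine IsPullback.of_bot ?_ (IsPullback.lift_snd _ _ _ _).symm (isPullback_morphismRestrict q (O s))
      rw [IsPullback.lift_fst]
      exact (IsPullback.of_hasPullback q (ψ ≫ (O s).ι)).flip
    have hψ : DescentBase.SFQ ψ := DescentBase.sfq ψ
    haveI := h.1
    haveI := h.2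
    haveI : Smooth (q ∣_ O s) :=
      MorphismProperty.of_isPullback_of_descendsAlong (P := @Smooth) sq hψ inferInstance
    haveI : FormallyUnramified (q ∣_ O s) :=
      MorphismProperty.of_isPullback_of_descendsAlong (P := @FormallyUnramified) sq hψ inferInstance
    haveI : IsProper (q ∣_ O s) :=
      MorphismProperty.of_isPullback_of_descendsAlong (P := @IsProper) sq hψ inferInstance
    haveI : IsAffineHom (q ∣_ O s) := IsZariskiLocalAtTarget.restrict ‹IsAffineHom q› _
    refine ⟨IsFinite.iff_isProper_and_isAffineHom.2 ⟨inferInstance, inferInstance⟩, ?_⟩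
    exact Etale.iff_flat_and_formallyUnramified.2 ⟨inferInstance, inferInstance, inferInstance⟩
  exact ⟨IsZariskiLocalAtTarget.of_iSup_eq_top (P := @IsFinite) O hO fun s => (key s).1,
    IsZariskiLocalAtTarget.of_iSup_eq_top (P := @Etale) O hO fun s => (key s).2⟩

end Groth.Pi1IntHom
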